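import Groth.Agent.Pi1.H536.GenusFam
import Groth.Agent.Picfga.CurveRelDim
import Groth.Agent.UnramA.SmoothFibreDim
import Groth.Agent.VarietyB.DimTop
import Groth.Agent.S0458
import Groth.Agent.S1536
import Groth.Agent.CurvesB.HZero
import Groth.Agent.CurvesB.PointSection
import Groth.Agent.Sga5.SmoothField
import Groth.Agent.CalgA.RegBasic
import Groth.Agent.Ega1.GenPts
import Groth.Agent.Flat2B.SmoothGeom
import Groth.Agent.Pi1.H385.GeomConnAC

/-!
# Smooth proper families of curves over a local base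

`smoothOfRelativeDimension_family`: a smooth closed morphism to a scheme all of whose points specialize to `s₀`,
whose fibre over a field point above `s₀` is connected of dimension `n`, is smooth of relative
dimension `n`.
`main`: let `f : X ⟶ S` be proper and smooth, all points of `S` specialize to `s₀` (e.g. `S = Spec A`,
`A` local), and let the fibre of `f` over a field-valued point above `s₀` be geometrically connected of
dimension one.  Then the base change of `f` to any field-valued point is geometrically connected of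
dimension one and has the same genus.
-/

set_option autoImplicit false

universe u

open CategoryTheory CategoryTheory.Limits AlgebraicGeometry

namespace Groth.Agent.Pi1.H536.CurveFam

section Field

variable (K : Type u) [Field K] {X : Scheme.{u}} (g : X ⟶ Spec (CommRingCat.of K))

/-- A nonempty scheme smooth of relative dimension `n` over a field has dimension `n`. -/
theorem topologicalKrullDim_eq (n : ℕ) [SmoothOfRelativeDimension n g] [Nonempty X] :
    topologicalKrullDim X = n := by
  rw [VarietyB.DimTop.topologicalKrullDim_eq_iSup_localDim]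
  simp_rw [UnramA.SmoothFibreDim.localDim_eq n g]
  exact ciSup_const

/-- A connected scheme smooth over a field is integral. -/
theorem isIntegral_of_smooth [Smooth g] [ConnectedSpace X] : IsIntegral X := by
  have : IsLocallyNoetherian X := LocallyOfFiniteType.isLocallyNoetherian g
  refine (Ega1.GenPts.isIntegral_iff X).2 ⟨inferInstance, fun x => ?_⟩
  have := Sga5.SmoothField.isRegularLocalRing_stalk g x
  exact CalgA.RegBasic.isDomain _

theorem smoothOfRelativeDimension_of_dim [Smooth g] [ConnectedSpace X] (n : ℕ)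
    (h : topologicalKrullDim X = n) : SmoothOfRelativeDimension n g := by
  have := isIntegral_of_smooth K g
  exact Picfga.CurveRelDim.smoothOfRelativeDimension_of_topologicalKrullDim_eq K X g n h

/-- The relative dimension is unique. -/
theorem relDim_unique (n m : ℕ) [SmoothOfRelativeDimension n g] (V : X.Opens) (hV : (V : Set X).Nonempty)
    (hm : SmoothOfRelativeDimension m (V.ι ≫ g)) : m = n := by
  obtain ⟨x, hx⟩ := hV
  have h1 := UnramA.SmoothFibreDim.localDim_eq n g x
  have h2 := UnramA.SmoothFibreDim.localDim_eq m (V.ι ≫ g) ⟨x, hx⟩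
  have h3 := VarietyB.DimTop.localDim_opens V ⟨x, hx⟩
  have h4 := h2.symm.trans (h3.trans h1)
  exact_mod_cast h4

end Field

/-- A proper scheme over a field with `h^0 = 1` is connected. -/
theorem connectedSpace_of_h0 (k : Type u) [Field k] (X : Scheme.{u}) [X.Over (Spec (CommRingCat.of k))]
    (h0 : Module.finrank k (Coh.HH X (Coh.structureModule X) 0) = 1) : ConnectedSpace X := by
  have hconst := CurvesB.HZero.exists_const k h0
  have hne : Nonempty X := GenusFam.nonempty_of_finrank k X h0.ge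
  have hpre : PreconnectedSpace X := by
    rw [preconnectedSpace_iff_clopen]
    intro s hs
    by_contra hcon
    push Not at hcon
    obtain ⟨hs1, hs2⟩ := hcon
    obtain ⟨x, hx⟩ := hs1
    obtain ⟨y, hy⟩ := (Set.ne_univ_iff_exists_notMem s).mp hs2
    obtain ⟨r, hr1, hr2⟩ := CurvesB.PointSection.exists_glue (X := X) ⟨s, hs.isOpen⟩
      ⟨sᶜ, hs.compl.isOpen⟩ (by
        ext z
        simp) 1 0 (by
        intro z hz1 hz2
        exact absurd hz1 hz2)
    obtain ⟨t, ht⟩ := hconst r
    have h1 := hr1 x hx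
    have h2 := hr2 y hy
    rw [map_one] at h1
    rw [map_zero] at h2
    have ht0 : t ≠ 0 := by
      rintro rfl
      rw [← ht, map_zero, map_zero] at h1
      exact zero_ne_one h1
    exact CurvesB.HZero.germ_gl_ne_zero k t ht0 y (ht ▸ h2)
  exact { toNonempty := hne }

theorem geometricallyReduced_of_smooth {X Y : Scheme.{u}} (f : X ⟶ Y) [Smooth f] :
    GeometricallyReduced f := by
  refine ⟨fun K _ y Z fst snd hZ => ?_⟩
  have : Smooth snd := MorphismProperty.of_isPullback hZ inferInstance
  exact Flat2B.SmoothGeom.isReduced_of_smooth snd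

/-- The cohomology of the structure sheaf of a geometrically connected smooth proper curve. -/
theorem curve_cohomology (k : Type u) [Field k] (X : Scheme.{u}) [X.Over (Spec (CommRingCat.of k))]
    [IsProper (X ↘ (Spec (CommRingCat.of k)))] [Smooth (X ↘ (Spec (CommRingCat.of k)))]
    [GeometricallyConnected (X ↘ (Spec (CommRingCat.of k)))] (hdim : topologicalKrullDim X = 1) :
    Module.finrank k (Coh.HH X (Coh.structureModule X) 0) = 1 ∧
      ∀ q : ℕ, 2 ≤ q → Subsingleton (Coh.HH X (Coh.structureModule X) q) := by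
  have : GeometricallyReduced (X ↘ (Spec (CommRingCat.of k))) :=
    geometricallyReduced_of_smooth _
  refine ⟨Groth.Agent.S1536.result k X, fun q hq => ?_⟩
  have h1 : IsLocallyNoetherian X :=
    LocallyOfFiniteType.isLocallyNoetherian (X ↘ (Spec (CommRingCat.of k)))
  have h2 : CompactSpace X :=
    QuasiCompact.compactSpace_of_compactSpace (X ↘ (Spec (CommRingCat.of k)))
  have : IsNoetherian X := { }
  exact Groth.Agent.S0458.result 1 hdim.le (Coh.toAb (Coh.structureModule X)) q (by omega)

section Family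

theorem exists_relDim {X S : Scheme.{u}} (f : X ⟶ S) [Smooth f] (x : X) :
    ∃ (n : ℕ) (V : X.Opens), x ∈ V ∧ SmoothOfRelativeDimension n (V.ι ≫ f) := by
  obtain ⟨U, hU, V, hV, hx, e, h⟩ := Smooth.exists_isStandardSmooth f x
  obtain ⟨n, hn⟩ := Picfga.CurveRelDim.exists_relativeDimension h
  refine ⟨n, V, hx, ?_⟩
  have h1 : SmoothOfRelativeDimension n (f.resLE U V e) := by
    have : IsAffine U := hU
    have : IsAffine V := hV
    rw [HasRingHomProperty.iff_of_isAffine (P := @SmoothOfRelativeDimension n)]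
    have hr : (RingHom.toMorphismProperty
        (RingHom.Locally (RingHom.IsStandardSmoothOfRelativeDimension n))).RespectsIso :=
      RingHom.toMorphismProperty_respectsIso_iff.mp
        (HasRingHomProperty.isLocal_ringHomProperty (@SmoothOfRelativeDimension n)).respectsIso
    exact (MorphismProperty.arrow_mk_iso_iff (RingHom.toMorphismProperty
      (RingHom.Locally (RingHom.IsStandardSmoothOfRelativeDimension n)))
      (arrowResLEAppIso f U V e)).mpr
        (RingHom.locally_of RingHom.isStandardSmoothOfRelativeDimension_respectsIso _ hn)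
  have h2 : V.ι ≫ f = f.resLE U V e ≫ U.ι := (Scheme.Hom.resLE_comp_ι _ _).symm
  rw [h2]
  exact (inferInstance : SmoothOfRelativeDimension (n + 0) (f.resLE U V e ≫ U.ι))

variable {X S : Scheme.{u}} (f : X ⟶ S)
  (k : Type u) [Field k] (t₀ : Spec (CommRingCat.of k) ⟶ S) (x₀ : ↥(Spec (CommRingCat.of k)))
  (X₀ : Scheme.{u}) (p₀ : X₀ ⟶ Spec (CommRingCat.of k)) (g₀ : X₀ ⟶ X) (h₀ : IsPullback g₀ p₀ f t₀)

include h₀

/-- Relative dimension of a smooth universally closed family over a local base. -/
theorem smoothOfRelativeDimension_family [UniversallyClosed f] [Smooth f] (hloc : ∀ s : S, s ⤳ t₀ x₀)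
    [ConnectedSpace X₀] (n : ℕ) (hdim : topologicalKrullDim X₀ = n) : SmoothOfRelativeDimension n f := by
  have hs0 : Smooth p₀ := MorphismProperty.of_isPullback h₀ inferInstance
  have hn0 := smoothOfRelativeDimension_of_dim k p₀ n hdim
  -- the good opens
  let ι := {V : X.Opens // SmoothOfRelativeDimension n (V.ι ≫ f)}
  have htop : iSup (fun V : ι => V.1) = ⊤ := by
    have hsp : ∀ x : X, f x = t₀ x₀ → x ∈ iSup (fun V : ι => V.1) := by
      intro x hx
      obtain ⟨m, V, hxV, hm⟩ := exists_relDim f x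
      obtain ⟨z, hz, -⟩ := Scheme.Pullback.exists_preimage_pullback x x₀ hx
      let z' : X₀ := h₀.isoPullback.inv z
      have hz' : g₀ z' = x := by
        rw [← hz]
        exact congr($(h₀.isoPullback_inv_fst) z)
      have hpb : IsPullback (g₀ ∣_ V) ((g₀ ⁻¹ᵁ V).ι ≫ p₀) (V.ι ≫ f) t₀ :=
        (isPullback_morphismRestrict g₀ V).paste_vert h₀
      have hbc := smoothOfRelativeDimension_isStableUnderBaseChange (n := m)
      have h1 : SmoothOfRelativeDimension m ((g₀ ⁻¹ᵁ V).ι ≫ p₀) :=
        MorphismProperty.of_isPullback (P := @SmoothOfRelativeDimension m) hpb hm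
      have h2 : m = n := relDim_unique k p₀ n m (g₀ ⁻¹ᵁ V) ⟨z', by simpa [hz'] using hxV⟩ h1
      subst h2
      exact TopologicalSpace.Opens.mem_iSup.2 ⟨⟨V, hm⟩, hxV⟩
    rw [eq_top_iff]
    intro x _
    by_contra hx
    have hcl : IsClosed (f '' ((iSup (fun V : ι => V.1) : X.Opens) : Set X)ᶜ) :=
      f.isClosedMap _ (iSup (fun V : ι => V.1)).isOpen.isClosed_compl
    have h3 : t₀ x₀ ∈ f '' ((iSup (fun V : ι => V.1) : X.Opens) : Set X)ᶜ :=
      (hloc (f x)).mem_closed hcl ⟨x, hx, rfl⟩
    obtain ⟨y, hy, hy'⟩ := h3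
    exact hy (hsp y hy')
  exact IsZariskiLocalAtSource.of_iSup_eq_top (P := @SmoothOfRelativeDimension n) (fun V : ι => V.1) htop
    fun V => V.2

end Family

section Main

variable {X S : Scheme.{u}} (f : X ⟶ S) [IsProper f] [Smooth f]
  (k : Type u) [Field k] (t₀ : Spec (CommRingCat.of k) ⟶ S) (x₀ : ↥(Spec (CommRingCat.of k)))
  (hloc : ∀ s : S, s ⤳ t₀ x₀)
  (X₀ : Scheme.{u}) [X₀.Over (Spec (CommRingCat.of k))] (g₀ : X₀ ⟶ X)
  (h₀ : IsPullback g₀ (X₀ ↘ Spec (CommRingCat.of k)) f t₀)
  [GeometricallyConnected (X₀ ↘ Spec (CommRingCat.of k))] (hdim : topologicalKrullDim X₀ = 1)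

include hloc h₀ hdim

theorem main_aux (K : Type u) [Field K] (t₁ : Spec (CommRingCat.of K) ⟶ S)
    (X₁ : Scheme.{u}) [X₁.Over (Spec (CommRingCat.of K))] (g₁ : X₁ ⟶ X)
    (h₁ : IsPullback g₁ (X₁ ↘ Spec (CommRingCat.of K)) f t₁) :
    ConnectedSpace X₁ ∧ topologicalKrullDim X₁ = 1 ∧ Curv2.genus K X₁ = Curv2.genus k X₀ ∧
      Module.finrank K (Coh.HH X₁ (Coh.structureModule X₁) 0) = 1 := by
  have hp0 : IsProper (X₀ ↘ Spec (CommRingCat.of k)) :=
    MorphismProperty.of_isPullback h₀ inferInstance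
  have hs0 : Smooth (X₀ ↘ Spec (CommRingCat.of k)) :=
    MorphismProperty.of_isPullback h₀ inferInstance
  have hc0 : ConnectedSpace X₀ :=
    GeometricallyConnected.connectedSpace_of_subsingleton (X₀ ↘ (Spec (CommRingCat.of k)))
  obtain ⟨H0, H2⟩ := curve_cohomology k X₀ hdim
  let x₁ : ↥(Spec (CommRingCat.of K)) := IsLocalRing.closedPoint K
  obtain ⟨h0, hg, h2⟩ := GenusFam.genus_eq f k t₀ X₀ g₀ h₀ K t₁ X₁ g₁ h₁ x₀ x₁ (hloc _) H0
    (fun i hi => by
      have := H2 i hi
      exact Module.finrank_zero_of_subsingleton)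
  have hc : ConnectedSpace X₁ := connectedSpace_of_h0 K X₁ h0
  have hrel : SmoothOfRelativeDimension 1 f :=
    smoothOfRelativeDimension_family f k t₀ x₀ X₀ (X₀ ↘ Spec (CommRingCat.of k)) g₀ h₀ hloc 1 hdim
  have hbc := smoothOfRelativeDimension_isStableUnderBaseChange (n := 1)
  have hrel1 : SmoothOfRelativeDimension 1 (X₁ ↘ Spec (CommRingCat.of K)) :=
    MorphismProperty.of_isPullback (P := @SmoothOfRelativeDimension 1) h₁ hrel
  exact ⟨hc, topologicalKrullDim_eq K (X₁ ↘ Spec (CommRingCat.of K)) 1, hg, h0⟩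

/-- All fibres are geometrically connected. -/
theorem geometricallyConnected : GeometricallyConnected f := by
  refine ⟨fun K _ y Z fst snd h => ?_⟩
  let _ : Z.Over (Spec (CommRingCat.of K)) := ⟨snd⟩
  exact (main_aux f k t₀ x₀ hloc X₀ g₀ h₀ hdim K y Z fst h).1

theorem smoothOfRelativeDimension : SmoothOfRelativeDimension 1 f := by
  have hc0 : ConnectedSpace X₀ :=
    GeometricallyConnected.connectedSpace_of_subsingleton (X₀ ↘ (Spec (CommRingCat.of k)))
  exact smoothOfRelativeDimension_family f k t₀ x₀ X₀ (X₀ ↘ Spec (CommRingCat.of k)) g₀ h₀ hloc 1 hdim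

/-- Smooth proper families of curves over a local base have constant genus. -/
theorem main (K : Type u) [Field K] (t₁ : Spec (CommRingCat.of K) ⟶ S)
    (X₁ : Scheme.{u}) [X₁.Over (Spec (CommRingCat.of K))] (g₁ : X₁ ⟶ X)
    (h₁ : IsPullback g₁ (X₁ ↘ Spec (CommRingCat.of K)) f t₁) :
    GeometricallyConnected (X₁ ↘ Spec (CommRingCat.of K)) ∧ ConnectedSpace X₁ ∧
      topologicalKrullDim X₁ = 1 ∧ Curv2.genus K X₁ = Curv2.genus k X₀ := by
  have h1 := geometricallyConnected f k t₀ x₀ hloc X₀ g₀ h₀ hdim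
  obtain ⟨h2, h3, h4, -⟩ := main_aux f k t₀ x₀ hloc X₀ g₀ h₀ hdim K t₁ X₁ g₁ h₁
  exact ⟨MorphismProperty.of_isPullback h₁ h1, h2, h3, h4⟩

end Main

/-- The case of a local ring and an algebraically closed field over its residue field. -/
theorem main_local (A : Type u) [CommRing A] [IsLocalRing A] {X : Scheme.{u}}
    (f : X ⟶ Spec (CommRingCat.of A)) [IsProper f] [Smooth f]
    (k : Type u) [Field k] [IsAlgClosed k] (φ : A →+* k) [IsLocalHom φ]
    (X₀ : Scheme.{u}) [X₀.Over (Spec (CommRingCat.of k))] (g₀ : X₀ ⟶ X)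
    (h₀ : IsPullback g₀ (X₀ ↘ Spec (CommRingCat.of k)) f (Spec.map (CommRingCat.ofHom φ)))
    [ConnectedSpace X₀] (hdim : topologicalKrullDim X₀ = 1) :
    GeometricallyConnected f ∧ SmoothOfRelativeDimension 1 f ∧
    ∀ (K : Type u) [Field K] (t₁ : Spec (CommRingCat.of K) ⟶ Spec (CommRingCat.of A))
      (X₁ : Scheme.{u}) [X₁.Over (Spec (CommRingCat.of K))] (g₁ : X₁ ⟶ X)
      (_ : IsPullback g₁ (X₁ ↘ Spec (CommRingCat.of K)) f t₁),
      GeometricallyConnected (X₁ ↘ Spec (CommRingCat.of K)) ∧ ConnectedSpace X₁ ∧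
        topologicalKrullDim X₁ = 1 ∧ Curv2.genus K X₁ = Curv2.genus k X₀ := by
  have hs0 : Smooth (X₀ ↘ Spec (CommRingCat.of k)) :=
    MorphismProperty.of_isPullback h₀ inferInstance
  have hgc : GeometricallyConnected (X₀ ↘ Spec (CommRingCat.of k)) :=
    H385.GeomConnAC.geometricallyConnected k _
  let x₀ : ↥(Spec (CommRingCat.of k)) := IsLocalRing.closedPoint k
  have hx₀ : Spec.map (CommRingCat.ofHom φ) x₀ = IsLocalRing.closedPoint A :=
    IsLocalRing.comap_closedPoint φ
  have hloc : ∀ s : ↥(Spec (CommRingCat.of A)), s ⤳ Spec.map (CommRingCat.ofHom φ) x₀ := by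
    intro s
    rw [hx₀]
    exact IsLocalRing.specializes_closedPoint s
  exact ⟨geometricallyConnected f k _ x₀ hloc X₀ g₀ h₀ hdim,
    smoothOfRelativeDimension f k _ x₀ hloc X₀ g₀ h₀ hdim,
    fun K _ t₁ X₁ _ g₁ h₁ => main f k _ x₀ hloc X₀ g₀ h₀ hdim K t₁ X₁ g₁ h₁⟩

end Groth.Agent.Pi1.H536.CurveFam
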