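import Groth.Prelude.Def_CurvBase
import Groth.Prelude.Def_PerfAux
import Groth.Agent.S0002
import Groth.Agent.S0223
import Groth.Agent.PerfB.Semi
import Groth.Agent.PerfB.StructFlat
import Groth.Agent.CurvesB.HZero

/-!
# Cohomology of the structure sheaf in a proper flat family over a local ring

`finrank_eq_betti`: Betti numbers at `s` can be computed on the base change to any field-valued point
over `s`.  `finrank_le`: `h^i` can only increase under specialization.  `genus_eq`: if the special
fibre has `h^0 = 1` and `h^i = 0` for `i ≥ 2`, then so does every fibre over a generization, and the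
genus is the same.
-/

set_option autoImplicit false

universe u

open CategoryTheory CategoryTheory.Limits AlgebraicGeometry

namespace Groth.Agent.Pi1.H536.GenusFam

theorem finrank_eq_betti_aux (k : Type u) [Field k] {X' : Scheme.{u}}
    [X'.Over (Spec (CommRingCat.of k))] [IsProper (X' ↘ Spec (CommRingCat.of k))]
    (x : ↥(Spec (CommRingCat.of k))) (i : ℕ) :
    PerfAux.betti (X' ↘ Spec (CommRingCat.of k)) (Coh.structureModule X') x i =
      Module.finrank k (Coh.HH X' (Coh.structureModule X') i) := by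
  let f := X' ↘ Spec (CommRingCat.of k)
  let S := Spec (CommRingCat.of k)
  let a : CommRingCat.of k ⟶ S.residueField x := Spec.preimage (S.fromSpecResidueField x)
  let : Algebra k (S.residueField x) := a.hom.toAlgebra
  let : (f.fiber x).Over (Spec (CommRingCat.of (S.residueField x))) :=
    ⟨f.fiberToSpecResidueField x⟩
  have ha : Spec.map (CommRingCat.ofHom (algebraMap k (S.residueField x))) =
      S.fromSpecResidueField x := Spec.map_preimage _
  have hpb : IsPullback (f.fiberι x) (f.fiber x ↘ Spec (CommRingCat.of (S.residueField x)))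
      (X' ↘ Spec (CommRingCat.of k))
      (Spec.map (CommRingCat.ofHom (algebraMap k (S.residueField x)))) := by
    rw [ha]
    exact IsPullback.of_hasPullback _ _
  rw [← Groth.Agent.S0223.finrank_eq k X' (S.residueField x) (f.fiber x) (f.fiberι x) hpb i]
  exact (CurvesA.HHMap.equivOver (S.residueField x) (CurvesA.HHMap.pullbackUnit (f.fiberι x))
    i).finrank_eq

/-- Betti numbers of the structure sheaf computed on the base change to a field-valued point. -/
theorem finrank_eq_betti {X S : Scheme.{u}} (f : X ⟶ S) [IsProper f] (k : Type u) [Field k]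
    (t : Spec (CommRingCat.of k) ⟶ S) (x : ↥(Spec (CommRingCat.of k)))
    {X' : Scheme.{u}} [X'.Over (Spec (CommRingCat.of k))] (g : X' ⟶ X)
    (h : IsPullback g (X' ↘ Spec (CommRingCat.of k)) f t) (i : ℕ) :
    Module.finrank k (Coh.HH X' (Coh.structureModule X') i) =
      PerfAux.betti f (Coh.structureModule X) (t x) i := by
  have hp : IsProper (X' ↘ Spec (CommRingCat.of k)) := MorphismProperty.of_isPullback h inferInstance
  have := CurvesC.UnitCoh.isQCoh_unit X
  rw [← finrank_eq_betti_aux k x i]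
  exact PerfB.FiberBC.betti_eq h (Coh.structureModule X) (Coh.structureModule X')
    (CurvesA.HHMap.pullbackUnit g) x i (VarietyB.PullSec.isQCoh_pullback _ _ inferInstance)

/-- A proper scheme over a field with a point has `h^0 ≥ 1`. -/
theorem one_le_finrank (k : Type u) [Field k] (X : Scheme.{u}) [X.Over (Spec (CommRingCat.of k))]
    [IsProper (X ↘ Spec (CommRingCat.of k))] [Nonempty X] :
    1 ≤ Module.finrank k (Coh.HH X (Coh.structureModule X) 0) := by
  have : IsLocallyNoetherian X :=
    LocallyOfFiniteType.isLocallyNoetherian (X ↘ (Spec (CommRingCat.of k)))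
  have h1 : Module.Finite k (Coh.HH X (Coh.structureModule X) 0) :=
    Groth.Agent.S0002.result k X _ (CurvesC.UnitCoh.isCoh_unit X) 0
  have h3 : Nonempty (⊤ : X.Opens) := ⟨⟨Classical.arbitrary X, trivial⟩⟩
  have h4 : Nontrivial Γ(X, ⊤) := inferInstance
  have h2 : Nontrivial (Coh.HH X (Coh.structureModule X) 0) :=
    (CurvesB.HZero.equivO X).toEquiv.nontrivial
  exact Module.finrank_pos

/-- A proper scheme over a field with `h^0 ≥ 1` has a point. -/
theorem nonempty_of_finrank (k : Type u) [Field k] (X : Scheme.{u})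
    [X.Over (Spec (CommRingCat.of k))]
    (h : 1 ≤ Module.finrank k (Coh.HH X (Coh.structureModule X) 0)) : Nonempty X := by
  by_contra hcon
  rw [not_nonempty_iff] at hcon
  have h1 : Subsingleton Γ(X, ⊤) := inferInstance
  have h2 : Subsingleton (Coh.HH X (Coh.structureModule X) 0) :=
    (CurvesB.HZero.equivO X).toEquiv.subsingleton
  rw [Module.finrank_zero_of_subsingleton] at h
  omega

section Specialization

variable {X S : Scheme.{u}} (f : X ⟶ S) [IsProper f] [Flat f] [LocallyOfFinitePresentation f]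
  (k : Type u) [Field k] (t₀ : Spec (CommRingCat.of k) ⟶ S)
  (X₀ : Scheme.{u}) [X₀.Over (Spec (CommRingCat.of k))] (g₀ : X₀ ⟶ X)
  (h₀ : IsPullback g₀ (X₀ ↘ Spec (CommRingCat.of k)) f t₀)
  (K : Type u) [Field K] (t₁ : Spec (CommRingCat.of K) ⟶ S)
  (X₁ : Scheme.{u}) [X₁.Over (Spec (CommRingCat.of K))] (g₁ : X₁ ⟶ X)
  (h₁ : IsPullback g₁ (X₁ ↘ Spec (CommRingCat.of K)) f t₁)
  (x₀ : ↥(Spec (CommRingCat.of k))) (x₁ : ↥(Spec (CommRingCat.of K))) (hsp : t₁ x₁ ⤳ t₀ x₀)

include h₀ h₁ hsp

/-- `h^i` can only go up under specialization. -/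
theorem finrank_le (i : ℕ) : Module.finrank K (Coh.HH X₁ (Coh.structureModule X₁) i) ≤
    Module.finrank k (Coh.HH X₀ (Coh.structureModule X₀) i) := by
  rw [finrank_eq_betti f k t₀ x₀ g₀ h₀, finrank_eq_betti f K t₁ x₁ g₁ h₁]
  have h1 := PerfB.Semi.isOpen_betti f (Coh.structureModule X) (PerfB.StructFlat.isFP_structure)
    (PerfB.StructFlat.isFlatOver_structure f) i
    (PerfAux.betti f (Coh.structureModule X) (t₀ x₀) i + 1)
  have h2 : t₁ x₁ ∈ {s : S | PerfAux.betti f (Coh.structureModule X) s i <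
      PerfAux.betti f (Coh.structureModule X) (t₀ x₀) i + 1} :=
    hsp.mem_open h1 (by simp)
  exact Nat.lt_succ_iff.mp h2

omit h₁ [IsProper f] in
/-- The fibre over a generization of a point in the image is not empty. -/
theorem exists_point [Nonempty X₀] : ∃ x : X, f x = t₁ x₁ := by
  obtain ⟨y⟩ := ‹Nonempty X₀›
  have h1 : IsOpen (Set.range f) := (f.isOpenMap).isOpen_range
  have h2 : t₀ x₀ ∈ Set.range f := by
    refine ⟨g₀ y, ?_⟩
    have h3 := congr($(h₀.w) y)
    have h4 : (X₀ ↘ Spec (CommRingCat.of k)) y = x₀ := by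
      have : Subsingleton ↥(Spec (CommRingCat.of k)) := inferInstanceAs (Subsingleton (PrimeSpectrum k))
      exact Subsingleton.elim _ _
    simpa [h4] using h3
  exact hsp.mem_open h1 h2

omit [IsProper f] in
/-- The fibre over a generization of a point of the image is not empty. -/
theorem nonempty_of_specializes [Nonempty X₀] : Nonempty X₁ := by
  obtain ⟨x, hx⟩ := exists_point f k t₀ X₀ g₀ h₀ K t₁ x₀ x₁ hsp
  obtain ⟨z, hz, -⟩ := Scheme.Pullback.exists_preimage_pullback x x₁ hx
  exact ⟨h₁.isoPullback.inv z⟩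

/-- If the special fibre has `h^0 = 1` and `h^i = 0` for `i ≥ 2`, so have the others, with the same
genus. -/
theorem genus_eq (H0 : Module.finrank k (Coh.HH X₀ (Coh.structureModule X₀) 0) = 1)
    (H2 : ∀ i, 2 ≤ i → Module.finrank k (Coh.HH X₀ (Coh.structureModule X₀) i) = 0) :
    Module.finrank K (Coh.HH X₁ (Coh.structureModule X₁) 0) = 1 ∧
      Curv2.genus K X₁ = Curv2.genus k X₀ ∧
      ∀ i, 2 ≤ i → Module.finrank K (Coh.HH X₁ (Coh.structureModule X₁) i) = 0 := by
  have hn : Nonempty X₀ := nonempty_of_finrank k X₀ H0.ge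
  have hn₁ : Nonempty X₁ := nonempty_of_specializes f k t₀ X₀ g₀ h₀ K t₁ X₁ g₁ h₁ x₀ x₁ hsp
  have hp : IsProper (X₁ ↘ Spec (CommRingCat.of K)) :=
    MorphismProperty.of_isPullback h₁ inferInstance
  have A0 : Module.finrank K (Coh.HH X₁ (Coh.structureModule X₁) 0) = 1 :=
    le_antisymm ((finrank_le f k t₀ X₀ g₀ h₀ K t₁ X₁ g₁ h₁ x₀ x₁ hsp 0).trans H0.le)
      (one_le_finrank K X₁)
  have A2 : ∀ i, 2 ≤ i → Module.finrank K (Coh.HH X₁ (Coh.structureModule X₁) i) = 0 :=
    fun i hi => Nat.le_zero.mp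
      ((finrank_le f k t₀ X₀ g₀ h₀ K t₁ X₁ g₁ h₁ x₀ x₁ hsp i).trans (H2 i hi).le)
  refine ⟨A0, ?_, A2⟩
  have h1 := PerfB.Semi.isLocallyConstant_euler f (Coh.structureModule X)
    (PerfB.StructFlat.isFP_structure) (PerfB.StructFlat.isFlatOver_structure f)
  have h2 : PerfAux.eulerChar f (Coh.structureModule X) (t₁ x₁) =
      PerfAux.eulerChar f (Coh.structureModule X) (t₀ x₀) := by
    have h3 := (h1 {PerfAux.eulerChar f (Coh.structureModule X) (t₀ x₀)})
    exact hsp.mem_open h3 rfl
  have key : ∀ (b : ℕ → ℕ), b 0 = 1 → (∀ i, 2 ≤ i → b i = 0) →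
      (finsum fun i : ℕ => (-1 : ℤ) ^ i * (b i : ℤ)) = 1 - b 1 := by
    intro b hb0 hb2
    rw [finsum_eq_sum_of_support_subset (s := Finset.range 2)]
    · simp [Finset.sum_range_succ, hb0]
      ring
    · intro i hi
      simp only [Function.mem_support, ne_eq, mul_eq_zero, not_or] at hi
      by_contra hcon
      simp only [Finset.coe_range, Set.mem_Iio, not_lt] at hcon
      exact hi.2 (by rw [hb2 i hcon]; rfl)
  have b0 := fun i => finrank_eq_betti f k t₀ x₀ g₀ h₀ i
  have b1 := fun i => finrank_eq_betti f K t₁ x₁ g₁ h₁ i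
  unfold PerfAux.eulerChar at h2
  rw [key (fun i => PerfAux.betti f (Coh.structureModule X) (t₁ x₁) i) (by rw [← b1, A0])
      (fun i hi => by rw [← b1, A2 i hi]),
    key (fun i => PerfAux.betti f (Coh.structureModule X) (t₀ x₀) i) (by rw [← b0, H0])
      (fun i hi => by rw [← b0, H2 i hi])] at h2
  have h4 : PerfAux.betti f (Coh.structureModule X) (t₁ x₁) 1 =
      PerfAux.betti f (Coh.structureModule X) (t₀ x₀) 1 := by omega
  rw [Curv2.genus, Curv2.genus, b1, b0, h4]

end Specialization

end Groth.Agent.Pi1.H536.GenusFam
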